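import Mathlib

/-!
# Nc hive (S3894): definitions

Everything is done "upstairs" in `GL (Fin n) F`: a cover of a subgroup `G ≤ PGL_n` by proper
subgroups corresponds to a cover of `Gh = preimage of G` by subgroups containing the centre
and not containing `Gh`.
-/

set_option autoImplicit false

namespace Cfsg.Agent.Lib.Helper6.Nc

open Matrix

variable {n : ℕ} {F : Type*} [Field F]

/-- `AA` covers `Gh` by subgroups that contain the centre of `GL_n` and do not contain `Gh`. -/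
structure UpCover (Gh : Subgroup (GL (Fin n) F)) (AA : Finset (Subgroup (GL (Fin n) F))) : Prop where
  center_le : ∀ A ∈ AA, Subgroup.center (GL (Fin n) F) ≤ A
  proper : ∀ A ∈ AA, ¬ Gh ≤ A
  covers : ∀ g ∈ Gh, ∃ A ∈ AA, g ∈ A

/-- `AA` is a minimal upstairs cover of `Gh`, all of whose members are nilpotent and lie in `Gh`. -/
structure MinNilCover (Gh : Subgroup (GL (Fin n) F)) (AA : Finset (Subgroup (GL (Fin n) F))) : Prop where
  cover : UpCover Gh AA
  le : ∀ A ∈ AA, A ≤ Gh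
  minimal : ∀ BB : Finset (Subgroup (GL (Fin n) F)), UpCover Gh BB → AA.card ≤ BB.card
  nilp : ∀ A ∈ AA, Group.IsNilpotent ↥A

/-- Stabiliser in `GL_n` of the line spanned by the column vector `v`. -/
def lineStab (v : Fin n → F) : Subgroup (GL (Fin n) F) where
  carrier := {g | ∃ c : Fˣ, (g : Matrix (Fin n) (Fin n) F) *ᵥ v = (c : F) • v}
  mul_mem' := by
    rintro a b ⟨c, hc⟩ ⟨d, hd⟩
    refine ⟨c * d, ?_⟩
    rw [Units.val_mul, ← Matrix.mulVec_mulVec, hd, Matrix.mulVec_smul, hc, smul_smul, Units.val_mul,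
      mul_comm]
  one_mem' := ⟨1, by simp⟩
  inv_mem' := by
    rintro a ⟨c, hc⟩
    refine ⟨c⁻¹, ?_⟩
    have h1 : ((a⁻¹ : GL (Fin n) F) : Matrix (Fin n) (Fin n) F) *ᵥ
        ((a : Matrix (Fin n) (Fin n) F) *ᵥ v) = v := by
      rw [Matrix.mulVec_mulVec, ← Units.val_mul, inv_mul_cancel, Units.val_one, Matrix.one_mulVec]
    rw [hc, Matrix.mulVec_smul] at h1
    calc ((a⁻¹ : GL (Fin n) F) : Matrix (Fin n) (Fin n) F) *ᵥ v
        = ((c⁻¹ : Fˣ) : F) • ((c : F) • (((a⁻¹ : GL (Fin n) F) : Matrix (Fin n) (Fin n) F) *ᵥ v)) := by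
          rw [smul_smul, ← Units.val_mul, inv_mul_cancel, Units.val_one, one_smul]
      _ = ((c⁻¹ : Fˣ) : F) • v := by rw [h1]

/-- Stabiliser in `GL_n` of the line spanned by the row vector `φ` (a hyperplane). -/
def rowStab (φ : Fin n → F) : Subgroup (GL (Fin n) F) where
  carrier := {g | ∃ c : Fˣ, φ ᵥ* (g : Matrix (Fin n) (Fin n) F) = (c : F) • φ}
  mul_mem' := by
    rintro a b ⟨c, hc⟩ ⟨d, hd⟩
    refine ⟨c * d, ?_⟩
    rw [Units.val_mul, ← Matrix.vecMul_vecMul, hc, Matrix.smul_vecMul, hd, smul_smul, Units.val_mul]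
  one_mem' := ⟨1, by simp⟩
  inv_mem' := by
    rintro a ⟨c, hc⟩
    refine ⟨c⁻¹, ?_⟩
    have h1 : (φ ᵥ* (a : Matrix (Fin n) (Fin n) F)) ᵥ*
        ((a⁻¹ : GL (Fin n) F) : Matrix (Fin n) (Fin n) F) = φ := by
      rw [Matrix.vecMul_vecMul, ← Units.val_mul, mul_inv_cancel, Units.val_one, Matrix.vecMul_one]
    rw [hc, Matrix.smul_vecMul] at h1
    calc φ ᵥ* ((a⁻¹ : GL (Fin n) F) : Matrix (Fin n) (Fin n) F)
        = ((c⁻¹ : Fˣ) : F) • ((c : F) • (φ ᵥ* ((a⁻¹ : GL (Fin n) F) : Matrix (Fin n) (Fin n) F))) := by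
          rw [smul_smul, ← Units.val_mul, inv_mul_cancel, Units.val_one, one_smul]
      _ = ((c⁻¹ : Fˣ) : F) • φ := by rw [h1]

theorem mem_lineStab {v : Fin n → F} {g : GL (Fin n) F} :
    g ∈ lineStab v ↔ ∃ c : Fˣ, (g : Matrix (Fin n) (Fin n) F) *ᵥ v = (c : F) • v := Iff.rfl

theorem mem_rowStab {φ : Fin n → F} {g : GL (Fin n) F} :
    g ∈ rowStab φ ↔ ∃ c : Fˣ, φ ᵥ* (g : Matrix (Fin n) (Fin n) F) = (c : F) • φ := Iff.rfl

/-- The regular unipotent matrix `1 + N` (ones on the diagonal and the superdiagonal). -/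
def u0M (n : ℕ) (F : Type*) [Field F] : Matrix (Fin n) (Fin n) F :=
  fun i j => if j = i then 1 else if (j : ℕ) = (i : ℕ) + 1 then 1 else 0

theorem u0M_det (n : ℕ) (F : Type*) [Field F] : (u0M n F).det = 1 := by
  rw [Matrix.det_of_isUpperTriangular]
  · simp [u0M]
  · intro i j hij
    have h1 : (j : ℕ) < (i : ℕ) := hij
    have h2 : j ≠ i := fun h => by rw [h] at h1; exact lt_irrefl _ h1
    have h3 : (j : ℕ) ≠ (i : ℕ) + 1 := by omega
    simp [u0M, h2, h3]

/-- The regular unipotent element of `SL_n`. -/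
def u0 (n : ℕ) (F : Type*) [Field F] : Matrix.SpecialLinearGroup (Fin n) F := ⟨u0M n F, u0M_det n F⟩

/-- the same element in `GL_n` -/
def u0g (n : ℕ) (F : Type*) [Field F] : GL (Fin n) F := Matrix.SpecialLinearGroup.toGL (u0 n F)

@[simp] theorem coe_u0g (n : ℕ) (F : Type*) [Field F] :
    ((u0g n F : GL (Fin n) F) : Matrix (Fin n) (Fin n) F) = u0M n F := rfl

/-! ### `n = 2` -/

/-- upper unipotent -/
def uU (F : Type*) [Field F] : Matrix.SpecialLinearGroup (Fin 2) F :=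
  ⟨!![1, 1; 0, 1], by simp [Matrix.det_fin_two_of]⟩
/-- lower unipotent -/
def uL (F : Type*) [Field F] : Matrix.SpecialLinearGroup (Fin 2) F :=
  ⟨!![1, 0; 1, 1], by simp [Matrix.det_fin_two_of]⟩
/-- diagonal element `diag(a, a⁻¹)` -/
def sD (a : Fˣ) : Matrix.SpecialLinearGroup (Fin 2) F :=
  ⟨!![(a : F), 0; 0, ((a⁻¹ : Fˣ) : F)], by simp [Matrix.det_fin_two_of]⟩

def uUg (F : Type*) [Field F] : GL (Fin 2) F := Matrix.SpecialLinearGroup.toGL (uU F)
def uLg (F : Type*) [Field F] : GL (Fin 2) F := Matrix.SpecialLinearGroup.toGL (uL F)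
def sDg (a : Fˣ) : GL (Fin 2) F := Matrix.SpecialLinearGroup.toGL (sD a)

@[simp] theorem coe_uUg (F : Type*) [Field F] :
    ((uUg F : GL (Fin 2) F) : Matrix (Fin 2) (Fin 2) F) = !![1, 1; 0, 1] := rfl
@[simp] theorem coe_uLg (F : Type*) [Field F] :
    ((uLg F : GL (Fin 2) F) : Matrix (Fin 2) (Fin 2) F) = !![1, 0; 1, 1] := rfl
@[simp] theorem coe_sDg (a : Fˣ) :
    ((sDg a : GL (Fin 2) F) : Matrix (Fin 2) (Fin 2) F) = !![(a : F), 0; 0, ((a⁻¹ : Fˣ) : F)] := rfl

/-- the `q + 1` points of the projective line, as vectors: `none ↦ (1,0)`, `some c ↦ (c,1)`. -/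
def vec : Option F → (Fin 2 → F)
  | none => ![1, 0]
  | some c => ![c, 1]

/-- for each point `x` of the projective line an element of `SL_2` carrying `(1,0)` to `vec x`. -/
def sig : Option F → Matrix.SpecialLinearGroup (Fin 2) F
  | none => 1
  | some c => ⟨!![c, -1; 1, 0], by simp [Matrix.det_fin_two_of]⟩

/-! Equation lemmas of `vec` and `sig`, generated HERE so that no two leaf files hold copies. -/
theorem vec_none_eq : vec (none : Option F) = ![1, 0] := by rw [vec]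
theorem vec_some_eq (c : F) : vec (some c) = ![c, 1] := by rw [vec]
theorem sig_none_eq : sig (none : Option F) = 1 := by rw [sig]
theorem sig_some_eq (c : F) :
    ((sig (some c) : Matrix.SpecialLinearGroup (Fin 2) F) : Matrix (Fin 2) (Fin 2) F) = !![c, -1; 1, 0] := by
  rw [sig]

/-- the diagonal subgroup of `GL_2` -/
def diagSub (F : Type*) [Field F] : Subgroup (GL (Fin 2) F) := lineStab ![1, 0] ⊓ lineStab ![0, 1]

/-- `g` is monomial (diagonal or antidiagonal) -/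
def IsMono (g : GL (Fin 2) F) : Prop :=
  ((g : Matrix (Fin 2) (Fin 2) F) 0 1 = 0 ∧ (g : Matrix (Fin 2) (Fin 2) F) 1 0 = 0) ∨
  ((g : Matrix (Fin 2) (Fin 2) F) 0 0 = 0 ∧ (g : Matrix (Fin 2) (Fin 2) F) 1 1 = 0)

/-- `g` fixes some line -/
def HasFix (g : GL (Fin 2) F) : Prop := ∃ v : Fin 2 → F, v ≠ 0 ∧ g ∈ lineStab v

/-- the subgroup `Z · SL_n` of `GL_n` -/
def Lh (n : ℕ) (F : Type*) [Field F] : Subgroup (GL (Fin n) F) :=
  Subgroup.center (GL (Fin n) F) ⊔ (Matrix.SpecialLinearGroup.toGL : Matrix.SpecialLinearGroup (Fin n) F →* GL (Fin n) F).range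

end Cfsg.Agent.Lib.Helper6.Nc
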