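import Mathlib
import Cfsg.Agent.Lib.Helper6.Nc.Defs
import Cfsg.Agent.Lib.Helper70.NcMERGE
import Cfsg.Agent.Lib.Helper70.NcTRANSFER
import Cfsg.Agent.Lib.Helper5.NcCOUNT
import Cfsg.Agent.Lib.Helper80.NcNFP
import Cfsg.Agent.Lib.Helper32.NcITER
import Cfsg.Agent.Lib.Helper27.NcNFP2
import Cfsg.Agent.Lib.Helper24.NcCENT
import Cfsg.Agent.Lib.Helper55.NcCEN
import Cfsg.Agent.Lib.Helper55.NcCONJ
import Cfsg.Agent.Lib.Helper49.NcG3A
import Cfsg.Agent.Lib.Helper90.NcG3B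
import Cfsg.Agent.Lib.Helper54.NcG3C
import Cfsg.Agent.Lib.Helper54.NcG3D
import Cfsg.Agent.Lib.Helper97.NcLS2
import Cfsg.Agent.Lib.Helper61.NcU2
import Cfsg.Agent.Lib.Helper61.NcSD
import Cfsg.Agent.Lib.Helper9.NcF2
import Cfsg.Agent.Lib.Helper33.NcSU
import Cfsg.Agent.Lib.Helper25.NcFIELD
import Cfsg.Agent.Lib.Helper25.NcVEC
import Cfsg.Agent.Lib.Helper8.NcSFIX
import Cfsg.Agent.Lib.Helper78.NcB2E
import Cfsg.Agent.Lib.Helper77.NcB2C
import Cfsg.Agent.Lib.Helper77.NcB2D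

/-!
# Nc hive (S3894): the leaves

This module only collects the leaf files of the Nc hive (each proves one or more of the exact
statements of `tools/helper6/NcSkel.lean.txt`).
-/
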