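import Mathlib
import Cfsg.Agent.Lib.Helper6.Nc.Defs
import Cfsg.Agent.Lib.Helper6.Nc.Leaves
import Cfsg.Agent.Lib.Helper75.NcCASE3
import Cfsg.Agent.Lib.Helper91.NcCASE2A
import Cfsg.Agent.Lib.Helper69.NcCASE2B1
import Cfsg.Agent.Lib.Helper11.NcCASE2B2

/-!
# Nc hive (S3894): final glue upstairs

No subgroup `Gh` of `GL_n(F)` containing `SL_n(F)` has a minimal "upstairs" cover by nilpotent
subgroups (`n ≥ 3`, or `n = 2` and `|F| ≥ 4`).
-/

set_option autoImplicit false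

namespace Cfsg.Agent.Lib.Helper6.Nc

open Matrix

variable {F : Type*} [Field F]

theorem nc_main_up [Fintype F] (n : ℕ) (hn : 3 ≤ n ∨ (n = 2 ∧ 4 ≤ Fintype.card F))
    (Gh : Subgroup (GL (Fin n) F))
    (hSL : (Matrix.SpecialLinearGroup.toGL :
      Matrix.SpecialLinearGroup (Fin n) F →* GL (Fin n) F).range ≤ Gh)
    (AA : Finset (Subgroup (GL (Fin n) F))) (h : MinNilCover Gh AA) : False := by
  rcases hn with hn | ⟨rfl, h4⟩
  · obtain ⟨k, rfl⟩ : ∃ k, n = k + 3 := ⟨n - 3, by omega⟩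
    exact nc_case3 k Gh hSL AA h
  · by_cases hA : ∃ a : Fˣ, ∀ k : ℕ, a ^ (2 ^ k) ≠ 1
    · obtain ⟨a, ha⟩ := hA
      exact nc_case2A Gh hSL AA h a ha
    · by_cases hL : Gh ≤ Lh 2 F
      · obtain ⟨i, hi, h2⟩ := nc_field h4 hA
        exact nc_case2B2 Gh hSL AA h hL i hi h2
      · exact nc_case2B1 Gh hSL AA h hL

end Cfsg.Agent.Lib.Helper6.Nc
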